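import Groth.Agent.Lib.AlgSpace.Space
import Groth.Agent.Lib.AlgSpace.MorDiag
import Groth.Agent.Lib.AlgSpace.Atlas
import Groth.Agent.Lib.AlgSpace.Quot
import Groth.Agent.Lib.AlgSpDecent.Sober
import Groth.Prelude.Def_AlgSpCov

/-!
# Quasi-compact affine charts
-/

universe u

set_option backward.isDefEq.respectTransparency.types false

open CategoryTheory CategoryTheory.Limits AlgebraicGeometry AlgSp Opposite Topology
open Groth.Agent.AlgSpace Groth.Agent.AlgSpDecent

namespace Groth.Agent.QcChart14

variable {S : Scheme.{u}} {F : Sp S}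

/-- The source of the relation of an affine chart of a quasi-separated space is quasi-compact over the chart
when the chart's self product over the base is quasi-compact. -/
theorem quasiCompact_snd (hqs : IsQuasiSeparatedSp F) {U R : Over S} {p : (yon S).obj U ⟶ F}
    {t s : R ⟶ U} (sq : IsPullback ((yon S).map t) ((yon S).map s) p p)
    [QuasiCompact (prod.snd : U ⨯ U ⟶ U).left] : QuasiCompact s.left := by
  have : QuasiCompact (prod.lift t s).left := prop_lift_of_repWith_diag hqs sq
  rw [← lift_left_snd t s]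
  infer_instance

/-- A surjective etale chart with quasi-compact relation is quasi-compact. -/
theorem repWith_qc_of_snd (hF : IsAlgSpace F) {U R : Over S} {p : (yon S).obj U ⟶ F}
    (he : RepWith @Etale p) (hs : RepWith @Surjective p) {t s : R ⟶ U}
    (sq : IsPullback ((yon S).map t) ((yon S).map s) p p) [QuasiCompact s.left] :
    RepWith @QuasiCompact p := by
  have := isLocallySurjective_of_etale he hs
  have := isLocalAtTarget_fppf_quasiCompact.{u}
  exact repWith_of_locallySurjective (Functor.relativelyRepresentable.of_diag hF.diag p) sq _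
    ((repWith_yon_map_iff _ _).2 ‹_›)

theorem quasiCompact_prod_snd (U : Over S) [QuasiCompact U.hom] :
    QuasiCompact (prod.snd : U ⨯ U ⟶ U).left := by
  rw [← Over.prodLeftIsoPullback_hom_snd U U]
  infer_instance

theorem quasiCompact_prod_snd_of_le (U : Over S) [IsAffine U.left] (S₀ : S.Opens) (hS₀ : IsAffineOpen S₀)
    (hU : Set.range U.hom ⊆ S₀) : QuasiCompact (prod.snd : U ⨯ U ⟶ U).left := by
  let g : U.left ⟶ S₀.toScheme := IsOpenImmersion.lift S₀.ι U.hom (by rwa [Scheme.Opens.range_ι])
  have hg : g ≫ S₀.ι = U.hom := IsOpenImmersion.lift_fac _ _ _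
  have : IsAffine S₀.toScheme := hS₀
  have sq : IsPullback (pullback.fst g g) (pullback.snd g g) U.hom U.hom := by
    rw [← hg]
    exact ⟨⟨by rw [← Category.assoc, pullback.condition, Category.assoc]⟩, ⟨pullbackIsPullbackOfCompMono g g S₀.ι⟩⟩
  rw [← Over.prodLeftIsoPullback_hom_snd U U]
  have : QuasiCompact (pullback.snd U.hom U.hom) := by
    have h1 : QuasiCompact (pullback.snd g g) := inferInstance
    rw [← sq.isoPullback_inv_snd]
    infer_instance
  infer_instance

/-- A space with a quasi-compact affine etale chart is quasi-separated over the base. -/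
theorem isQuasiSeparatedSp_of_chart (hF : IsAlgSpace F) {U : Over S} [IsAffine U.left]
    {p : (yon S).obj U ⟶ F} (hq : RepWith @QuasiCompact p) (he : RepWith @Etale p)
    (hs : RepWith @Surjective p) : IsQuasiSeparatedSp F := by
  have sq := hq.1.isPullback p
  obtain ⟨t, ht⟩ := (yon S).map_surjective (hq.1.fst p)
  rw [← ht] at sq
  set s := hq.1.snd p
  have : QuasiCompact s.left := hq.2 _ _ _ sq
  have : QuasiSeparated (prod.snd : U ⨯ U ⟶ U).left := by
    rw [← Over.prodLeftIsoPullback_hom_snd U U]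
    infer_instance
  have hc : QuasiCompact (prod.lift t s).left := by
    have : QuasiCompact ((prod.lift t s).left ≫ (prod.snd : U ⨯ U ⟶ U).left) := by
      rw [lift_left_snd]; infer_instance
    exact QuasiCompact.of_comp _ (prod.snd : U ⨯ U ⟶ U).left
  have := isLocallySurjective_of_etale he hs
  have := isLocallySurjective_prod_map p p
  have := isLocalAtTarget_fppf_quasiCompact.{u}
  refine repWith_of_locallySurjective hF.diag (isPullback_diag sq) _ ?_
  rw [← lift_comparison, repWith_respectsIso_right]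
  exact (repWith_yon_map_iff _ _).2 hc

/-- The points of a quasi-compact quasi-separated space form a spectral space. -/
theorem spectralSpace_points [QuasiSeparatedSpace ↥S] (hF : IsAlgSpace F) (hqc : IsQuasiCompactSp F)
    (hqs : IsQuasiSeparatedSp F) : SpectralSpace (Points F) := by
  have hdec := isDecent_of_isQuasiSeparatedSp hF hqs
  have := (isQuasiCompactSp_iff hF).1 hqc
  have := t0Space_of_finFibres hF (finFibres_of_isDecent hF.diag hdec)
  have := quasiSober_of_isDecent hF hdec
  have hB : TopologicalSpace.IsTopologicalBasis {U : Set (Points F) | IsOpen U ∧ IsCompact U} :=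
    TopologicalSpace.isTopologicalBasis_of_isOpen_of_nhds (fun U hU => hU.1) fun x W hx hW => by
      obtain ⟨V, hV, hVc, hxV, hVW⟩ := exists_compact_nhd hF x hW hx
      exact ⟨V, ⟨hV, hVc⟩, hxV, hVW⟩
  have : PrespectralSpace (Points F) := ⟨hB⟩
  obtain ⟨W, p, hW, he, hs⟩ := exists_affine_chart hqc
  have : QuasiCompact W.hom := inferInstance
  have := quasiCompact_prod_snd W
  have sq := he.1.isPullback p
  obtain ⟨t, ht⟩ := (yon S).map_surjective (he.1.fst p)
  rw [← ht] at sq
  have : QuasiCompact t.left := quasiCompact_snd hqs sq.flip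
  have key : ∀ U : Set (Points F), IsOpen U → IsCompact U → IsCompact (Points.ofPt p ⁻¹' U) := by
    intro U hU hUc
    obtain ⟨O, hO, rfl⟩ := (isOpenMap_ofPt p he).exists_opens_image_eq_of_prespectralSpace
      (Points.continuous_ofPt p) (fun x _ => surjective_ofPt hs x) hU hUc
    rw [preimage_image_ofPt sq]
    exact (t.left.isCompact_preimage hO).image (he.1.snd p).left.continuous
  have : QuasiSeparatedSpace (Points F) := ⟨fun U V hU hUc hV hVc => by
    have h := (key U hU hUc).inter_of_isOpen (key V hV hVc) (hU.preimage (Points.continuous_ofPt p))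
      (hV.preimage (Points.continuous_ofPt p))
    have := h.image (Points.continuous_ofPt p)
    rwa [← Set.preimage_inter, Set.image_preimage_eq _ (surjective_ofPt hs)] at this⟩
  exact {}

/-- Quasi-separated spaces are covered by opens with quasi-compact affine charts. -/
theorem exists_qc_chart_at (hF : IsAlgSpace F) (hqs : IsQuasiSeparatedSp F) (x : Points F) :
    ∃ (E : Set (Points F)) (W : Over S) (p : (yon S).obj W ⟶ openSub E), IsOpen E ∧ x ∈ E ∧
      IsAffine W.left ∧ RepWith @QuasiCompact p ∧ RepWith @Etale p ∧ RepWith @Surjective p := by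
  obtain ⟨U, a, hae, has⟩ := hF.atlas
  obtain ⟨u, rfl⟩ := surjective_ofPt has x
  obtain ⟨_, ⟨S₀, hS₀, rfl⟩, hu₀, -⟩ := S.isBasis_affineOpens.exists_subset_of_mem_open
    (Set.mem_univ (U.hom u)) isOpen_univ
  obtain ⟨_, ⟨(V : U.left.Opens), hV, rfl⟩, hu, hVsub⟩ := U.left.isBasis_affineOpens.exists_subset_of_mem_open
    (show u ∈ U.hom ⁻¹ᵁ S₀ from hu₀) (U.hom ⁻¹ᵁ S₀).2
  let W : Over S := Over.mk (V.ι ≫ U.hom)
  have : IsAffine W.left := hV
  have hWS : Set.range W.hom ⊆ S₀ := by
    rintro _ ⟨v, rfl⟩
    exact hVsub v.2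
  let q : (yon S).obj W ⟶ F := (yon S).map (Over.homMk V.ι rfl : W ⟶ U) ≫ a
  have hqe : RepWith @Etale q := repWith_etale_restrict hae V
  let E := Set.range (Points.ofPt q)
  have hE : IsOpen E := (isOpenMap_ofPt q hqe).isOpen_range
  obtain ⟨p, hp⟩ := exists_lift_openSub (W := E) q fun w => ⟨w, rfl⟩
  have sq0 : IsPullback (𝟙 _) p q (openSubι E) := by
    refine ⟨⟨by rw [hp, Category.id_comp]⟩, ⟨PullbackCone.IsLimit.mk _ (fun c => c.fst)
      (fun c => Category.comp_id _) (fun c => ?_) (fun c m h₁ h₂ => by simpa using h₁)⟩⟩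
    rw [← cancel_mono (openSubι E), Category.assoc, hp, c.condition]
  have hpe : RepWith @Etale p := repWith_of_isPullback sq0 hqe
  have hps : RepWith @Surjective p := by
    refine repWith_surjective_of_ofPt hpe.1 fun z => ?_
    obtain ⟨T, g, τ, rfl⟩ := exists_ofPt_eq z
    obtain ⟨w, hw⟩ : Points.ofPt (g ≫ openSubι E) τ ∈ E := ofPt_openSubι_mem g τ
    have sqg := (hpe.1.isPullback g).paste_horiz sq0
    obtain ⟨v, hv₁, hv₂⟩ := exists_pt_of_isPullback sqg (x := Points.ofScheme W w) (t := τ)
      (by rw [← Points.ofPt_eq_map_ofScheme]; exact hw)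
    obtain ⟨k, hk⟩ := (yon S).map_surjective (hpe.1.fst g)
    refine ⟨k.left v, ?_⟩
    rw [← ofPt_map_comp, hk, (hpe.1.isPullback g).w, ofPt_map_comp, hv₂]
  refine ⟨E, W, p, hE, ⟨(show ↥V.toScheme from ⟨u, hu⟩), ofPt_map_comp _ a _⟩, ‹_›, ?_, hpe, hps⟩
  have sq := hpe.1.isPullback p
  obtain ⟨t, ht⟩ := (yon S).map_surjective (hpe.1.fst p)
  rw [← ht] at sq
  have sq' : IsPullback ((yon S).map t) ((yon S).map (hpe.1.snd p)) q q := by
    have := sq.paste_horiz sq0
    rwa [Category.comp_id, hp] at this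
  have := quasiCompact_prod_snd_of_le W S₀ hS₀ hWS
  have : QuasiCompact (hpe.1.snd p).left := quasiCompact_snd hqs sq'
  exact repWith_qc_of_snd (isAlgSpace_of_representable (repWith_openSubι hE).1 hF) hpe hps sq

/-- Zariski locally quasi-separated iff covered by opens with quasi-compact affine charts. -/
theorem zarLocQS_iff (X : Space S) :
    (∃ (ι : Type u) (Xi : ι → Space S) (j : ∀ i, Xi i ⟶ X),
        IsZarCover (fun i => (Xi i).obj) (fun i => (j i).hom) ∧ ∀ i, IsQuasiSeparatedSp (Xi i).obj) ↔
      (∃ (ι : Type u) (Xi : ι → Space S) (j : ∀ i, Xi i ⟶ X),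
        IsZarCover (fun i => (Xi i).obj) (fun i => (j i).hom) ∧
          ∀ i, ∃ (U : Over S) (p : (yon S).obj U ⟶ (Xi i).obj), IsAffine U.left ∧
            RepWith @QuasiCompact p ∧ RepWith @Etale p ∧ RepWith @Surjective p) := by
  constructor
  · rintro ⟨ι, Xi, j, ⟨hj, hcov⟩, hqs⟩
    obtain ⟨V, v, -, hvs⟩ := X.property.atlas
    choose i y hy using fun t : ↥V.left => hcov (Points.ofPt v t)
    choose E W p hE hyE hW hq he hs using fun t => exists_qc_chart_at (Xi (i t)).property (hqs (i t)) (y t)
    refine ⟨↥V.left, fun t => ⟨openSub (E t),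
      isAlgSpace_of_representable (repWith_openSubι (hE t)).1 (Xi (i t)).property⟩,
      fun t => ObjectProperty.homMk (openSubι (E t) ≫ (j (i t)).hom),
      ⟨fun t => repWith_comp (repWith_openSubι (hE t)) (hj (i t)), fun x => ?_⟩,
      fun t => ⟨W t, p t, hW t, hq t, he t, hs t⟩⟩
    obtain ⟨t, rfl⟩ := surjective_ofPt hvs x
    obtain ⟨z, hz⟩ := (range_openSubι (E t)).ge (hyE t)
    refine ⟨t, z, ?_⟩
    change Points.map (openSubι (E t) ≫ (j (i t)).hom) z = _
    rw [Points.map_comp, hz]
    exact hy t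
  · rintro ⟨ι, Xi, j, hcov, hch⟩
    refine ⟨ι, Xi, j, hcov, fun i => ?_⟩
    obtain ⟨U, p, hU, hq, he, hs⟩ := hch i
    exact isQuasiSeparatedSp_of_chart (Xi i).property hq he hs

end Groth.Agent.QcChart14
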